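import Groth.Agent.Dense26.TorsionLocus
import Groth.Prelude.Def_SGA3x
import Mathlib.AlgebraicGeometry.Morphisms.Finite

/-! Kernels of the power maps of a group scheme. -/

set_option autoImplicit false
set_option backward.isDefEq.respectTransparency.types false
set_option linter.style.haveILetI false

universe u

open CategoryTheory CategoryTheory.Limits MonoidalCategory CartesianMonoidalCategory MonObj AlgebraicGeometry

noncomputable section

namespace Groth.Agent.Dense26

variable {S : Scheme.{u}} (H : Over S) [GrpObj H]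

/-- The kernel of the `n`th power map. -/
abbrev powKer (n : ℕ) : Scheme.{u} := pullback η[H].left (𝟙 H ^ n : H ⟶ H).left

/-- Its inclusion. -/
abbrev powKerι (n : ℕ) : powKer H n ⟶ H.left := pullback.snd η[H].left (𝟙 H ^ n : H ⟶ H).left

/-- The kernel as an object over `S`. -/
abbrev powKerOver (n : ℕ) : Over S := Over.mk (powKerι H n ≫ H.hom)

/-- Its inclusion, over `S`. -/
abbrev powKerHom (n : ℕ) : powKerOver H n ⟶ H := Over.homMk (powKerι H n) rfl

theorem fst_eq (n : ℕ) : pullback.fst η[H].left (𝟙 H ^ n : H ⟶ H).left = powKerι H n ≫ H.hom := by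
  have h := congrArg (· ≫ H.hom) (pullback.condition (f := η[H].left) (g := (𝟙 H ^ n : H ⟶ H).left))
  simp only [Category.assoc, Over.w] at h
  exact (Category.comp_id _).symm.trans h

theorem powKerHom_pow (n : ℕ) : powKerHom H n ^ n = 1 := by
  have h : powKerHom H n ^ n = powKerHom H n ≫ (𝟙 H ^ n : H ⟶ H) := by
    rw [MonObj.comp_pow, Category.comp_id]
  rw [h, Hom.one_def]
  apply Over.OverMorphism.ext
  show powKerι H n ≫ (𝟙 H ^ n : H ⟶ H).left = (powKerι H n ≫ H.hom) ≫ η[H].left
  rw [← pullback.condition, fst_eq]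

variable {H}

theorem exists_lift {n : ℕ} {X : Over S} (h : X ⟶ H) (hn : h ^ n = 1) :
    ∃ z : X.left ⟶ powKer H n, z ≫ powKerι H n = h.left := by
  refine ⟨pullback.lift X.hom h.left ?_, pullback.lift_snd _ _ _⟩
  have h2 : h ≫ (𝟙 H ^ n : H ⟶ H) = 1 := by rw [MonObj.comp_pow, Category.comp_id, hn]
  have h3 := congrArg Over.Hom.left h2
  rw [Hom.one_def] at h3
  exact h3.symm

theorem exists_le (m n : ℕ) : ∃ r : powKer H m ⟶ powKer H (m * n), r ≫ powKerι H (m * n) = powKerι H m :=
  exists_lift (powKerHom H m) (by rw [pow_mul, powKerHom_pow, one_pow])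

/-- The hypotheses of SGA3 IX on the family of torsion subgroups give universal schematic dominance. -/
theorem schDom_powKer [IsLocallyNoetherian S] [LocallyOfFiniteType H.hom] {E : Set ℕ}
    (ha : ∀ n ∈ E, IsFinite (powKerι H n ≫ H.hom) ∧ Flat (powKerι H n ≫ H.hom))
    (hb : ∀ (s : S) (V : (H.hom.fiber s).Opens) (t : Γ(H.hom.fiber s, V)),
      (∀ n ∈ E, (MoreMor.fiberMap (powKerι H n) H.hom s).app V t = 0) → t = 0) {S' : Scheme.{u}} (g : S' ⟶ S) :
    EGA43.SchDom (EGA43.Separating.bcFam H.hom g fun i : ULift.{u} E => powKerι H i.down.1) := by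
  haveI := LocallyOfFiniteType.isLocallyNoetherian H.hom
  refine schDom_of_fibrewise (p := H.hom) (f := fun i : ULift.{u} E => powKerι H i.down.1)
    (fun i => (ha _ i.down.2).2) ?_ g
  intro s V t h
  refine hb s V t fun n hn => ?_
  exact h ⟨⟨n, hn⟩⟩

end Groth.Agent.Dense26
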