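import Groth.Agent.EGA43.Separating.Dominant
import Groth.Agent.SGA3cLib.TransporterFP
import Groth.Prelude.Def_MoreMor
import Mathlib.AlgebraicGeometry.Noetherian

/-!
# Loci where a closed subscheme contains a base change, for schematically dense families (SGA3 IX)

If a family `f i : Z i ⟶ X` of finite flat `S`-schemes is universally schematically dominant then the locus of
`P ⟶ S` over which `X` factors through a given closed subscheme is the intersection of those of the `Z i`.
-/

set_option autoImplicit false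
set_option backward.isDefEq.respectTransparency.types false
set_option linter.style.haveILetI false

universe u

open CategoryTheory CategoryTheory.Limits AlgebraicGeometry

noncomputable section

namespace Groth.Agent.Dense26

open Groth.Agent.EGA43 Groth.Agent.EGA43.Separating SGA3cLib

variable {S P X Y : Scheme.{u}} (p : X ⟶ S) (q : P ⟶ S) (y : Y ⟶ pullback p q)
  {ι : Type u} {Z : ι → Scheme.{u}} (f : ∀ i, Z i ⟶ X)

/-- The canonical map to the total space over `P`. -/
def can {S' : Scheme.{u}} (x : S' ⟶ P) : pullback p (x ≫ q) ⟶ pullback p q :=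
  pullback.lift (pullback.fst _ _) (pullback.snd _ _ ≫ x) (by rw [pullback.condition, Category.assoc])

/-- `X` base changed by `x` factors through `Y`. -/
def AllIn {S' : Scheme.{u}} (x : S' ⟶ P) : Prop := ∃ l, l ≫ y = can p q x

/-- `Z i` base changed by `x` factors through `Y`. -/
def PieceIn (i : ι) {S' : Scheme.{u}} (x : S' ⟶ P) : Prop := ∃ l, l ≫ y = bcFam p (x ≫ q) f i ≫ can p q x

variable {p q y f}

theorem AllIn.piece {S' : Scheme.{u}} {x : S' ⟶ P} (h : AllIn p q y x) (i : ι) : PieceIn p q y f i x := by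
  obtain ⟨l, hl⟩ := h
  exact ⟨bcFam p (x ≫ q) f i ≫ l, by rw [Category.assoc, hl]⟩

/-- All pieces in `Y` gives everything in `Y`, by schematic dominance. -/
theorem allIn_of_pieces [IsClosedImmersion y] {S' : Scheme.{u}} {x : S' ⟶ P}
    (hd : SchDom (bcFam p (x ≫ q) f)) (h : ∀ i, PieceIn p q y f i x) : AllIn p q y x := by
  haveI : IsClosedImmersion (pullback.snd y (can p q x)) :=
    MorphismProperty.pullback_snd (P := @IsClosedImmersion) _ _ inferInstance
  haveI := hd.isIso_of_factor (pullback.snd y (can p q x)) fun i => by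
    obtain ⟨l, hl⟩ := h i
    exact ⟨pullback.lift l (bcFam p (x ≫ q) f i) hl, pullback.lift_snd _ _ _⟩
  exact ⟨inv (pullback.snd y (can p q x)) ≫ pullback.fst _ _, by
    rw [Category.assoc, pullback.condition, IsIso.inv_hom_id_assoc]⟩

theorem exists_piece [IsClosedImmersion y] (i : ι) [IsFinite (f i ≫ p)] [Flat (f i ≫ p)]
    [LocallyOfFinitePresentation (f i ≫ p)] :
    ∃ (T : Scheme.{u}) (t : T ⟶ P), IsClosedImmersion t ∧
      ∀ (S' : Scheme.{u}) (x : S' ⟶ P), PieceIn p q y f i x ↔ ∃ z, z ≫ t = x := by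
  haveI : IsFinite (pullback.snd (f i ≫ p) q) := MorphismProperty.pullback_snd (P := @IsFinite) _ _ inferInstance
  haveI : Flat (pullback.snd (f i ≫ p) q) := MorphismProperty.pullback_snd (P := @Flat) _ _ inferInstance
  haveI : LocallyOfFinitePresentation (pullback.snd (f i ≫ p) q) :=
    MorphismProperty.pullback_snd (P := @LocallyOfFinitePresentation) _ _ inferInstance
  let j := pullback.snd y (bcFam p q f i)
  haveI : IsClosedImmersion j := MorphismProperty.pullback_snd (P := @IsClosedImmersion) _ _ inferInstance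
  obtain ⟨T, t, ht, hT, -⟩ := WeilRes.exists_closedImmersion (pullback.snd (f i ≫ p) q) j
    (TransporterFP.essentiallyFree_of_finite _)
  refine ⟨T, t, ht, fun S' x => Iff.trans ?_ (hT S' x)⟩
  let e := pullbackLeftPullbackSndIso (f i ≫ p) q x
  have he : pullback.fst (pullback.snd (f i ≫ p) q) x ≫ bcFam p q f i =
      e.hom ≫ bcFam p (x ≫ q) f i ≫ can p q x := by
    apply pullback.hom_ext
    · simp only [e, can, bcFam, pullback.map, Category.assoc]
      erw [pullback.lift_fst, pullback.lift_fst, pullback.lift_fst, pullbackLeftPullbackSndIso_hom_fst_assoc]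
    · simp only [e, can, bcFam, pullback.map, Category.assoc]
      erw [pullback.lift_snd, pullback.lift_snd, pullback.lift_snd_assoc, pullbackLeftPullbackSndIso_hom_snd_assoc,
        pullback.condition]
  constructor
  · rintro ⟨l, hl⟩
    exact ⟨pullback.lift (e.hom ≫ l) (pullback.fst _ _) (by rw [Category.assoc, hl, he]), pullback.lift_snd _ _ _⟩
  · rintro ⟨l, hl⟩
    refine ⟨e.inv ≫ l ≫ pullback.fst _ _, ?_⟩
    rw [Category.assoc, Category.assoc, pullback.condition]
    show e.inv ≫ l ≫ j ≫ _ = _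
    rw [← Category.assoc l, hl, he, Iso.inv_hom_id_assoc]

theorem exists_lift_iff_ker_le {T S' : Scheme.{u}} (t : T ⟶ P) [IsClosedImmersion t] (x : S' ⟶ P) :
    (∃ z, z ≫ t = x) ↔ t.ker ≤ x.ker :=
  ⟨fun ⟨z, hz⟩ => hz ▸ z.le_ker_comp t, fun h => ⟨_, IsClosedImmersion.lift_fac t x h⟩⟩

/-- The locus where all of `X` lies in `Y` is closed. -/
theorem exists_locus [IsClosedImmersion y] (hfin : ∀ i, IsFinite (f i ≫ p)) (hflat : ∀ i, Flat (f i ≫ p))
    (hfp : ∀ i, LocallyOfFinitePresentation (f i ≫ p))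
    (hd : ∀ {S' : Scheme.{u}} (g : S' ⟶ S), SchDom (bcFam p g f)) :
    ∃ (T : Scheme.{u}) (t : T ⟶ P), IsClosedImmersion t ∧
      (∀ (S' : Scheme.{u}) (x : S' ⟶ P), (∃ z, z ≫ t = x) ↔ AllIn p q y x) ∧
      (IsNoetherian P → Nonempty ι →
        (∀ a b, ∃ c, (∃ r : Z a ⟶ Z c, r ≫ f c = f a) ∧ ∃ r : Z b ⟶ Z c, r ≫ f c = f b) →
        ∃ i, ∀ (S' : Scheme.{u}) (x : S' ⟶ P), AllIn p q y x ↔ PieceIn p q y f i x) := by
  choose T t ht hT using fun i =>
    haveI := hfin i; haveI := hflat i; haveI := hfp i; exists_piece (p := p) (q := q) (y := y) (f := f) i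
  have hTk : ∀ i (S' : Scheme.{u}) (x : S' ⟶ P), PieceIn p q y f i x ↔ (t i).ker ≤ x.ker := fun i S' x =>
    haveI := ht i; (hT i S' x).trans (exists_lift_iff_ker_le (t i) x)
  have hall : ∀ (S' : Scheme.{u}) (x : S' ⟶ P), AllIn p q y x ↔ (⨆ i, (t i).ker) ≤ x.ker := fun S' x =>
    ⟨fun h => iSup_le fun i => (hTk i S' x).1 (h.piece i),
      fun h => allIn_of_pieces (hd _) fun i => (hTk i S' x).2 ((le_iSup (fun i => (t i).ker) i).trans h)⟩
  refine ⟨_, (⨆ i, (t i).ker).subschemeι, inferInstance, fun S' x => ?_, fun _ hne hdir => ?_⟩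
  · rw [hall, exists_lift_iff_ker_le, Scheme.IdealSheafData.ker_subschemeι]
  classical
  have mono : ∀ a c, (∃ r : Z a ⟶ Z c, r ≫ f c = f a) → (t a).ker ≤ (t c).ker := by
    rintro a c ⟨r, hr⟩
    haveI := ht c
    refine (hTk a (T c) (t c)).1 ?_
    obtain ⟨l, hl⟩ := (hT c _ (t c)).2 ⟨𝟙 _, Category.id_comp _⟩
    let r' : pullback (f a ≫ p) (t c ≫ q) ⟶ pullback (f c ≫ p) (t c ≫ q) :=
      pullback.map _ _ _ _ r (𝟙 _) (𝟙 _) (by rw [Category.comp_id, ← Category.assoc, hr]) (by simp)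
    refine ⟨r' ≫ l, ?_⟩
    rw [Category.assoc, hl, ← Category.assoc]
    congr 1
    apply pullback.hom_ext
    · simp only [r', bcFam, pullback.map, Category.assoc]
      erw [pullback.lift_fst, pullback.lift_fst_assoc, pullback.lift_fst, Category.assoc, hr]
    · simp only [r', bcFam, pullback.map, Category.assoc, Category.comp_id]
      erw [pullback.lift_snd, pullback.lift_snd, pullback.lift_snd]
  obtain ⟨𝒱, h𝒱fin, h𝒱⟩ : ∃ 𝒱 : Set P.affineOpens, 𝒱.Finite ∧ ⨆ V : 𝒱, ((V : P.affineOpens) : P.Opens) = ⊤ := by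
    obtain ⟨s, hs⟩ := isCompact_univ.elim_finite_subcover (fun V : P.affineOpens => ((V : P.Opens) : Set P))
      (fun V => V.1.2) fun x _ => by
        obtain ⟨V, hV, hxV, -⟩ := exists_isAffineOpen_mem_and_subset (X := P) (x := x) (U := ⊤) trivial
        exact Set.mem_iUnion.2 ⟨⟨V, hV⟩, hxV⟩
    refine ⟨s, s.finite_toSet, eq_top_iff.2 fun x _ => ?_⟩
    obtain ⟨V, hVs, hxV⟩ := Set.mem_iUnion₂.1 (hs (Set.mem_univ x))
    exact TopologicalSpace.Opens.mem_iSup.2 ⟨⟨V, hVs⟩, hxV⟩
  haveI := hne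
  haveI : Finite 𝒱 := h𝒱fin.to_subtype
  have hmax : ∀ V : P.affineOpens, ∃ i, ∀ a, (t i).ker.ideal V ≤ (t a).ker.ideal V →
      (t a).ker.ideal V ≤ (t i).ker.ideal V := fun V => by
    haveI : IsNoetherianRing Γ(P, V) := IsLocallyNoetherian.component_noetherian V
    obtain ⟨_, ⟨i, rfl⟩, hi⟩ := set_has_maximal_iff_noetherian.2 (inferInstanceAs (_root_.IsNoetherian Γ(P, V) Γ(P, V)))
      (Set.range fun i => (t i).ker.ideal V) ⟨_, Classical.arbitrary ι, rfl⟩
    exact ⟨i, fun a ha => (eq_of_le_of_not_lt ha (hi _ ⟨a, rfl⟩)).ge⟩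
  choose m hm using hmax
  have hbound : ∀ s : Finset ι, ∃ c, ∀ a ∈ s, (t a).ker ≤ (t c).ker := by
    intro s
    induction s using Finset.induction with
    | empty => exact ⟨Classical.arbitrary ι, fun a ha => absurd ha (Finset.notMem_empty a)⟩
    | insert a s _ ih =>
      obtain ⟨c, hc⟩ := ih
      obtain ⟨d, h1, h2⟩ := hdir a c
      refine ⟨d, fun b hb => ?_⟩
      rcases Finset.mem_insert.1 hb with rfl | hb
      · exact mono _ _ h1
      · exact (hc b hb).trans (mono _ _ h2)
  obtain ⟨i, hi⟩ := hbound (h𝒱fin.toFinset.image m)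
  have hsup : (⨆ a, (t a).ker) ≤ (t i).ker := by
    refine iSup_le fun a => Scheme.IdealSheafData.le_of_iSup_eq_top _ h𝒱 fun V => ?_
    obtain ⟨c, hac, hic⟩ := hdir a (m V)
    calc (t a).ker.ideal V ≤ (t c).ker.ideal V := mono _ _ hac V.1
      _ ≤ (t (m V)).ker.ideal V := hm V c (mono _ _ hic V.1)
      _ ≤ (t i).ker.ideal V := hi _ (Finset.mem_image_of_mem m (h𝒱fin.mem_toFinset.2 V.2)) V.1
  exact ⟨i, fun S' x => ⟨fun h => h.piece i, fun h => (hall S' x).2 (hsup.trans ((hTk i S' x).1 h))⟩⟩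

/-- Fibrewise schematic density gives universal schematic dominance. -/
theorem schDom_of_fibrewise [IsLocallyNoetherian X] (hflat : ∀ i, Flat (f i ≫ p))
    (hb : ∀ (s : S) (V : (p.fiber s).Opens) (a : Γ(p.fiber s, V)),
      (∀ i, (MoreMor.fiberMap (f i) p s).app V a = 0) → a = 0) {S' : Scheme.{u}} (g : S' ⟶ S) :
    SchDom (bcFam p g f) := by
  haveI := hflat
  refine schDom_bcFam_of_fibres p Z f (fun s V a ha => hb s V a fun i => ?_) g
  rw [fiberMap_eq_bcFam p f s i (MoreMor.fiberMap (f i) p s) (pullback.lift_fst _ _ _) (pullback.lift_snd _ _ _)]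
  exact ha i

end Groth.Agent.Dense26
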